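import Groth.Agent.S18734
import Mathlib.RingTheory.QuasiFinite.Basic
import Mathlib.RingTheory.Localization.AtPrime.Basic
import Mathlib.RingTheory.LocalRing.ResidueField.Ideal

/-! Quasi-finiteness over semi-valuation rings. -/

universe u

open scoped nonZeroDivisors

namespace Groth.Agent.ModPairSemiVal

variable {A Γ : Type u} [CommRing A] [CommRing Γ] [Algebra A Γ]

/-- Primes over the closed set of `f` contain a prime over `𝔮` avoiding `f`. -/
theorem exists_generization {f : A} (hnzd : algebraMap A Γ f ∈ Γ⁰) (𝔮 : Ideal A)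
    (hdiv : ∀ x ∈ 𝔮, ∃ x' ∈ 𝔮, x = f * x')
    (huniq : ∀ t : Ideal A, t.IsPrime → 𝔮 ≤ t → f ∉ t → t = 𝔮)
    (y : Ideal Γ) [y.IsPrime] (hfy : algebraMap A Γ f ∈ y) :
    ∃ z : Ideal Γ, z.IsPrime ∧ z ≤ y ∧ algebraMap A Γ f ∉ z ∧ z.comap (algebraMap A Γ) = 𝔮 := by
  let S := Localization.AtPrime y
  let φ : A →+* S := (algebraMap Γ S).comp (algebraMap A Γ)
  have hS : φ f ∈ S⁰ :=
    IsLocalization.map_nonZeroDivisors_le y.primeCompl S ⟨_, hnzd, rfl⟩
  have hnu : ¬ IsUnit (φ f) := fun h => (IsLocalization.AtPrime.isUnit_to_map_iff S y _).1 h hfy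
  have hpow : ∀ n : ℕ, ∀ x ∈ 𝔮.map φ, φ f ^ n ∣ x := by
    intro n
    induction n with
    | zero => exact fun x _ => by simp
    | succ n ih =>
      intro x hx
      have hle : 𝔮.map φ ≤ Ideal.span {φ f} * 𝔮.map φ := Ideal.map_le_iff_le_comap.2 fun q hq => by
        obtain ⟨q', hq', rfl⟩ := hdiv q hq
        rw [Ideal.mem_comap, map_mul]
        exact Ideal.mul_mem_mul (Ideal.mem_span_singleton_self _) (Ideal.mem_map_of_mem φ hq')
      obtain ⟨x', hx', rfl⟩ := Ideal.mem_span_singleton_mul.1 (hle hx)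
      rw [pow_succ']
      exact mul_dvd_mul_left _ (ih x' hx')
  have hdisj : Disjoint ((𝔮.map φ : Ideal S) : Set S) (Submonoid.powers (φ f) : Set S) := by
    rw [Set.disjoint_left]
    rintro x hx ⟨n, rfl⟩
    obtain ⟨c, hc⟩ := hpow (n + 1) _ hx
    refine hnu (IsUnit.of_mul_eq_one c (sub_eq_zero.1 ((mem_nonZeroDivisors_iff_right.1 (pow_mem hS n)) _ ?_)))
    linear_combination -hc
  obtain ⟨Z, hZp, hZ, hZd⟩ := Ideal.exists_le_prime_disjoint _ _ hdisj
  have hfz : φ f ∉ Z := fun h => Set.disjoint_left.1 hZd h (Submonoid.mem_powers _)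
  refine ⟨Z.comap (algebraMap Γ S), inferInstance, fun x hx => ?_, hfz, ?_⟩
  · by_contra hxy
    exact hZp.ne_top (Ideal.eq_top_of_isUnit_mem _ hx ((IsLocalization.AtPrime.isUnit_to_map_iff S y x).2 hxy))
  · refine huniq _ (Ideal.IsPrime.comap (algebraMap A Γ)) ?_ hfz
    rw [Ideal.comap_comap]
    exact fun x hx => hZ (Ideal.mem_map_of_mem φ hx)

/-- A finite type algebra, quasi-finite away from the regular element `f`, is quasi-finite. -/
theorem quasiFinite_of_away [Algebra.FiniteType A Γ] {f : A} (hnzd : algebraMap A Γ f ∈ Γ⁰)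
    (𝔮 : Ideal A) [𝔮.IsPrime] (hdiv : ∀ x ∈ 𝔮, ∃ x' ∈ 𝔮, x = f * x')
    (huniq : ∀ t : Ideal A, t.IsPrime → 𝔮 ≤ t → f ∉ t → t = 𝔮)
    (hV : ValuationRing (A ⧸ 𝔮))
    [Algebra.QuasiFinite A (Localization.Away (algebraMap A Γ f))] : Algebra.QuasiFinite A Γ := by
  rw [Algebra.QuasiFinite.iff_finite_comap_preimage_singleton]
  intro s
  let L := Localization.Away (algebraMap A Γ f)
  have hfin : ∀ t : PrimeSpectrum A,
      {z : PrimeSpectrum Γ | algebraMap A Γ f ∉ z.asIdeal ∧ PrimeSpectrum.comap (algebraMap A Γ) z = t}.Finite := by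
    intro t
    refine ((Algebra.QuasiFinite.finite_comap_preimage_singleton (S := L) t).image
      (PrimeSpectrum.comap (algebraMap Γ L))).subset ?_
    rintro z ⟨hz, rfl⟩
    obtain ⟨z', rfl⟩ : z ∈ Set.range (PrimeSpectrum.comap (algebraMap Γ L)) := by
      rw [PrimeSpectrum.localization_away_comap_range L (algebraMap A Γ f)]
      exact hz
    refine ⟨z', ?_, rfl⟩
    show PrimeSpectrum.comap (algebraMap A L) z' = _
    rw [IsScalarTower.algebraMap_eq A Γ L]
    rfl
  by_cases hfs : f ∈ s.asIdeal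
  swap
  · refine (hfin s).subset fun z hz => ⟨fun h => hfs ?_, hz⟩
    rw [← show PrimeSpectrum.comap (algebraMap A Γ) z = s from hz]
    exact h
  let T : Set (PrimeSpectrum Γ) := {z | algebraMap A Γ f ∉ z.asIdeal ∧
    PrimeSpectrum.comap (algebraMap A Γ) z = (⟨𝔮, inferInstance⟩ : PrimeSpectrum A)}
  suffices h : ∀ z ∈ T, {y : PrimeSpectrum Γ | z.asIdeal ≤ y.asIdeal ∧
      PrimeSpectrum.comap (algebraMap A Γ) y = s}.Finite by
    refine ((hfin _).biUnion (t := fun z => {y : PrimeSpectrum Γ | z.asIdeal ≤ y.asIdeal ∧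
      PrimeSpectrum.comap (algebraMap A Γ) y = s}) h).subset fun y hy => ?_
    have hfy : algebraMap A Γ f ∈ y.asIdeal := by
      rw [← show PrimeSpectrum.comap (algebraMap A Γ) y = s from hy] at hfs
      exact hfs
    obtain ⟨z, hz, hzy, hfz, hzq⟩ := exists_generization hnzd 𝔮 hdiv huniq y.asIdeal hfy
    exact Set.mem_biUnion (x := (⟨z, hz⟩ : PrimeSpectrum Γ)) ⟨hfz, PrimeSpectrum.ext hzq⟩ ⟨hzy, hy⟩
  rintro ⟨z, hz⟩ ⟨hfz, hzq⟩
  have hzq' : z.comap (algebraMap A Γ) = 𝔮 := congrArg PrimeSpectrum.asIdeal hzq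
  haveI : z.LiesOver 𝔮 := ⟨hzq'.symm⟩
  let R := A ⧸ 𝔮
  haveI : IsDomain (Γ ⧸ z) := Ideal.Quotient.isDomain z
  let B := z.ResidueField
  -- the residue field is a quasi-finite algebra over `A`
  haveI hB : Algebra.QuasiFinite A B := by
    let l : L →+* B := IsLocalization.Away.lift (algebraMap A Γ f) (g := algebraMap Γ B)
      (IsUnit.mk0 _ fun h => hfz (Ideal.algebraMap_residueField_eq_zero.1 h))
    let la : L →ₐ[A] B :=
      { l with
        commutes' := fun x => by
          show l (algebraMap A L x) = algebraMap A B x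
          rw [IsScalarTower.algebraMap_apply A Γ L, IsScalarTower.algebraMap_apply A Γ B]
          exact IsLocalization.Away.lift_eq _ _ _ }
    refine Algebra.QuasiFinite.of_forall_exists_mul_mem_range la fun x => ?_
    obtain ⟨g, ⟨e, he⟩, rfl⟩ := IsLocalization.exists_mk'_eq (nonZeroDivisors (Γ ⧸ z)) x
    obtain ⟨g, rfl⟩ := Ideal.Quotient.mk_surjective g
    obtain ⟨e, rfl⟩ := Ideal.Quotient.mk_surjective e
    have hez : e ∉ z := fun h => nonZeroDivisors.ne_zero he (Ideal.Quotient.eq_zero_iff_mem.2 h)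
    refine ⟨algebraMap Γ L e, ?_, algebraMap Γ L g, ?_⟩
    · show IsUnit (l (algebraMap Γ L e))
      rw [IsLocalization.Away.lift_eq]
      exact IsUnit.mk0 _ fun h => hez (Ideal.algebraMap_residueField_eq_zero.1 h)
    · show l (algebraMap Γ L g) = _ * l (algebraMap Γ L e)
      rw [IsLocalization.Away.lift_eq, IsLocalization.Away.lift_eq,
        IsScalarTower.algebraMap_apply Γ (Γ ⧸ z) B, IsScalarTower.algebraMap_apply Γ (Γ ⧸ z) B]
      exact (IsLocalization.mk'_spec B (Ideal.Quotient.mk z g) ⟨Ideal.Quotient.mk z e, he⟩).symm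
  let K := 𝔮.ResidueField
  letI : Algebra K B := (Ideal.ResidueField.map 𝔮 z (algebraMap A Γ) hzq'.symm).toAlgebra
  haveI : IsScalarTower A K B := .of_algebraMap_eq fun x => by
    rw [IsScalarTower.algebraMap_apply A Γ B]
    exact (Ideal.ResidueField.map_algebraMap 𝔮 z (algebraMap A Γ) hzq'.symm x).symm
  haveI : Algebra.QuasiFinite K B := Algebra.QuasiFinite.of_restrictScalars A K B
  haveI : Module.Finite K B := Algebra.QuasiFinite.iff_of_isArtinianRing.mp inferInstance
  letI : Algebra R (Γ ⧸ z) := Ideal.Quotient.algebraQuotientOfLEComap hzq'.ge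
  letI : Algebra R B := ((algebraMap K B).comp (algebraMap R K)).toAlgebra
  haveI : IsScalarTower R K B := .of_algebraMap_eq fun _ => rfl
  let ψ : (Γ ⧸ z) →ₐ[R] B :=
    { algebraMap (Γ ⧸ z) B with
      commutes' := fun x => by
        obtain ⟨x, rfl⟩ := Ideal.Quotient.mk_surjective x
        show algebraMap (Γ ⧸ z) B (Ideal.Quotient.mk z (algebraMap A Γ x)) =
          algebraMap K B (algebraMap R K (algebraMap A R x))
        rw [← IsScalarTower.algebraMap_apply A R K, ← IsScalarTower.algebraMap_apply A K B]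
        rfl }
  haveI : IsDomain R := Ideal.Quotient.isDomain 𝔮
  haveI : Algebra.QuasiFinite R (Γ ⧸ z) :=
    S18734.quasiFinite_of_generic (K := K) ψ (IsFractionRing.injective (Γ ⧸ z) B)
  obtain ⟨sR, hsR⟩ : ∃ sR : PrimeSpectrum R, PrimeSpectrum.comap (algebraMap A R) sR = s ∨
      ∀ y : PrimeSpectrum Γ, z ≤ y.asIdeal → PrimeSpectrum.comap (algebraMap A Γ) y ≠ s := by
    by_cases hle : 𝔮 ≤ s.asIdeal
    · obtain ⟨sR, hsR⟩ : s ∈ Set.range (PrimeSpectrum.comap (Ideal.Quotient.mk 𝔮)) := by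
        rw [range_comap_of_surjective _ _ Ideal.Quotient.mk_surjective, Ideal.mk_ker]
        exact hle
      exact ⟨sR, Or.inl hsR⟩
    · refine ⟨⟨⊥, Ideal.bot_prime⟩, Or.inr fun y hy h => hle ?_⟩
      rw [← hzq', ← h]
      exact Ideal.comap_mono hy
  rcases hsR with hsR | hsR
  · refine ((Algebra.QuasiFinite.finite_comap_preimage_singleton (S := Γ ⧸ z) sR).image
      (PrimeSpectrum.comap (Ideal.Quotient.mk z))).subset ?_
    rintro y ⟨hzy, hy⟩
    obtain ⟨y', rfl⟩ : y ∈ Set.range (PrimeSpectrum.comap (Ideal.Quotient.mk z)) := by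
      rw [range_comap_of_surjective _ _ Ideal.Quotient.mk_surjective, Ideal.mk_ker]
      exact hzy
    refine ⟨y', ?_, rfl⟩
    apply PrimeSpectrum.comap_injective_of_surjective (algebraMap A R) Ideal.Quotient.mk_surjective
    rw [hsR, ← hy]
    rfl
  · exact Set.Finite.subset Set.finite_empty fun y hy => hsR y hy.1 hy.2

end Groth.Agent.ModPairSemiVal
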